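import Groth.Prelude.Def_GSzMilK
import Mathlib.GroupTheory.Perm.Sign
import Mathlib.GroupTheory.Perm.Fin
import Mathlib.LinearAlgebra.Multilinear.Curry
import Mathlib.Tactic

/-!
# Symbol calculus in Milnor K-groups
-/

set_option autoImplicit false

universe u v w

namespace K766.Basic

open MilK

variable {F : Type u} [Field F]

/-- The symbol map as an integer-multilinear map. -/
noncomputable def symML (F : Type u) [Field F] (n : ℕ) :
    MultilinearMap ℤ (fun _ : Fin n => Additive Fˣ) (K F n) :=
  (MilK.mk F n).toIntLinearMap.compMultilinearMap (PiTensorProduct.tprod ℤ)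

theorem symML_apply {n : ℕ} (x : Fin n → Additive Fˣ) :
    symML F n x = symbol fun i => (x i).toMul := rfl

theorem symbol_eq {n : ℕ} (x : Fin n → Fˣ) :
    symbol x = symML F n (fun i => Additive.ofMul (x i)) := rfl

theorem update_ofMul {n : ℕ} (x : Fin n → Fˣ) (i : Fin n) (a : Fˣ) :
    (fun j => Additive.ofMul (Function.update x i a j)) =
      Function.update (fun j => Additive.ofMul (x j)) i (Additive.ofMul a) := by
  ext j
  by_cases h : j = i
  · subst h; simp
  · simp [h]

theorem symbol_update_mul {n : ℕ} (x : Fin n → Fˣ) (i : Fin n) (a b : Fˣ) :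
    symbol (Function.update x i (a * b)) =
      symbol (Function.update x i a) + symbol (Function.update x i b) := by
  simp only [symbol_eq, update_ofMul, ofMul_mul]
  exact MultilinearMap.map_update_add _ _ _ _ _

theorem symbol_update_one {n : ℕ} (x : Fin n → Fˣ) (i : Fin n) :
    symbol (Function.update x i 1) = 0 := by
  simp only [symbol_eq, update_ofMul, ofMul_one]
  exact MultilinearMap.map_update_zero _ _ _

theorem symbol_update_zpow {n : ℕ} (x : Fin n → Fˣ) (i : Fin n) (a : Fˣ) (k : ℤ) :
    symbol (Function.update x i (a ^ k)) = k • symbol (Function.update x i a) := by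
  simp only [symbol_eq, update_ofMul, ofMul_zpow]
  exact MultilinearMap.map_update_smul _ _ _ _ _

theorem symbol_update_pow {n : ℕ} (x : Fin n → Fˣ) (i : Fin n) (a : Fˣ) (k : ℕ) :
    symbol (Function.update x i (a ^ k)) = k • symbol (Function.update x i a) := by
  have := symbol_update_zpow x i a (k : ℤ)
  simpa using this

theorem symbol_update_inv {n : ℕ} (x : Fin n → Fˣ) (i : Fin n) (a : Fˣ) :
    symbol (Function.update x i a⁻¹) = -symbol (Function.update x i a) := by
  have := symbol_update_zpow x i a (-1)
  simpa using this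

theorem symbol_update_div {n : ℕ} (x : Fin n → Fˣ) (i : Fin n) (a b : Fˣ) :
    symbol (Function.update x i (a / b)) =
      symbol (Function.update x i a) - symbol (Function.update x i b) := by
  rw [div_eq_mul_inv, symbol_update_mul, symbol_update_inv, sub_eq_add_neg]

theorem symbol_eq_zero_of_eq_one {n : ℕ} (x : Fin n → Fˣ) (i : Fin n) (h : x i = 1) :
    symbol x = 0 := by
  rw [← Function.update_eq_self i x, h, symbol_update_one]

/-! ### generation -/

/-- The K-group is generated by symbols. -/
theorem closure_symbol (F : Type u) [Field F] (n : ℕ) :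
    AddSubgroup.closure (Set.range (symbol : (Fin n → Fˣ) → K F n)) = ⊤ := by
  rw [eq_top_iff]
  intro z _
  obtain ⟨t, rfl⟩ := mk_surjective F n z
  induction t using PiTensorProduct.induction_on with
  | smul_tprod r f =>
    have : mk F n (r • PiTensorProduct.tprod ℤ f) = r • (symbol fun i => (f i).toMul) := by
      rw [map_zsmul, mk_tprod]
    rw [this]
    exact AddSubgroup.zsmul_mem _ (AddSubgroup.subset_closure (Set.mem_range_self _)) _
  | add x y hx hy =>
    rw [map_add]
    exact AddSubgroup.add_mem _ (hx trivial) (hy trivial)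

/-- Induction principle: additive closed predicates on symbols. -/
theorem induction {n : ℕ} {p : K F n → Prop} (z : K F n)
    (sym : ∀ x : Fin n → Fˣ, p (symbol x)) (zero : p 0) (add : ∀ x y, p x → p y → p (x + y))
    (neg : ∀ x, p x → p (-x)) : p z := by
  have hz : z ∈ AddSubgroup.closure (Set.range (symbol : (Fin n → Fˣ) → K F n)) := by
    rw [closure_symbol]; trivial
  induction hz using AddSubgroup.closure_induction with
  | mem x hx => obtain ⟨y, rfl⟩ := hx; exact sym y
  | zero => exact zero
  | add x y _ _ hx hy => exact add x y hx hy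
  | neg x _ hx => exact neg x hx

theorem hom_ext {n : ℕ} {M : Type w} [AddCommGroup M] {f g : K F n →+ M}
    (h : ∀ x : Fin n → Fˣ, f (symbol x) = g (symbol x)) : f = g := by
  ext z
  induction z using induction with
  | sym x => exact h x
  | zero => simp
  | add x y hx hy => simp [hx, hy]
  | neg x hx => simp [hx]

theorem hom_ext' {n : ℕ} {M : Type w} [AddCommGroup M] {f g : K F n →+ M}
    (h : ∀ x : Fin n → Fˣ, f (symbol x) = g (symbol x)) (z : K F n) : f z = g z :=
  DFunLike.congr_fun (hom_ext h) z

/-- To show a subgroup is everything it is enough to show it contains symbols. -/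
theorem mem_of_symbol_mem {n : ℕ} (S : AddSubgroup (K F n)) (h : ∀ x : Fin n → Fˣ, symbol x ∈ S)
    (z : K F n) : z ∈ S := by
  induction z using induction with
  | sym x => exact h x
  | zero => exact S.zero_mem
  | add x y hx hy => exact S.add_mem hx hy
  | neg x hx => exact S.neg_mem hx

/-! ### Steinberg, `{x, -x}`, antisymmetry -/

theorem symbol_eq_zero_of_lt {n : ℕ} (x : Fin n → Fˣ) {i j : Fin n} (hij : i < j)
    (h : (x i : F) + (x j : F) = 1) : symbol x = 0 :=
  symbol_eq_zero_of_isSteinberg x ⟨i, j, hij, h⟩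

theorem symbol_eq_zero_of_ne {n : ℕ} (x : Fin n → Fˣ) {i j : Fin n} (hij : i ≠ j)
    (h : (x i : F) + (x j : F) = 1) : symbol x = 0 := by
  rcases lt_or_gt_of_ne hij with h' | h'
  · exact symbol_eq_zero_of_lt x h' h
  · exact symbol_eq_zero_of_lt x h' (by rw [add_comm]; exact h)

theorem symbol_eq_zero_of_eq_neg {n : ℕ} (x : Fin n → Fˣ) {i j : Fin n} (hij : i ≠ j)
    (h : x j = - x i) : symbol x = 0 := by
  classical
  by_cases h1 : x i = 1
  · exact symbol_eq_zero_of_eq_one x i h1
  · set a : Fˣ := x i with ha
    have ha1 : (1 : F) - (a : F) ≠ 0 := by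
      intro h0
      apply h1
      apply Units.ext
      rw [Units.val_one]
      exact (sub_eq_zero.mp h0).symm
    have ha2 : (1 : F) - ((a⁻¹ : Fˣ) : F) ≠ 0 := by
      intro h0
      apply h1
      have : a⁻¹ = 1 := by
        apply Units.ext
        rw [Units.val_one]
        exact (sub_eq_zero.mp h0).symm
      rwa [inv_eq_one] at this
    have key : x j = Units.mk0 _ ha1 / Units.mk0 _ ha2 := by
      rw [h, eq_div_iff_mul_eq']
      apply Units.ext
      have : (a : F) ≠ 0 := a.ne_zero
      simp only [Units.val_mul, Units.val_mk0, Units.val_neg, Units.val_inv_eq_inv_val]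
      field_simp
      ring
    have e1 : x = Function.update x j (x j) := (Function.update_eq_self j x).symm
    rw [e1, key, symbol_update_div]
    have z1 : symbol (Function.update x j (Units.mk0 _ ha1)) = 0 := by
      apply symbol_eq_zero_of_ne _ hij
      rw [Function.update_of_ne hij, Function.update_self]
      simp [← ha]
    have z2 : symbol (Function.update x j (Units.mk0 _ ha2)) = 0 := by
      set y := Function.update x j (Units.mk0 _ ha2) with hy
      have hyi : y i = a := by rw [hy, Function.update_of_ne hij]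
      have e2 : symbol y = - symbol (Function.update y i a⁻¹) := by
        rw [symbol_update_inv, neg_neg, ← hyi, Function.update_eq_self]
      rw [e2, neg_eq_zero]
      apply symbol_eq_zero_of_ne _ hij
      rw [Function.update_of_ne hij.symm, Function.update_self, hy, Function.update_self]
      simp
    rw [z1, z2, sub_zero]

theorem symbol_update_update_neg {n : ℕ} (x : Fin n → Fˣ) {i j : Fin n} (hij : i ≠ j) (a : Fˣ) :
    symbol (Function.update (Function.update x i a) j (-a)) = 0 := by
  apply symbol_eq_zero_of_eq_neg _ hij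
  rw [Function.update_self, Function.update_of_ne hij, Function.update_self]

/-- Antisymmetry in two slots. -/
theorem symbol_update_update_add {n : ℕ} (x : Fin n → Fˣ) {i j : Fin n} (hij : i ≠ j) (a b : Fˣ) :
    symbol (Function.update (Function.update x i a) j b) +
      symbol (Function.update (Function.update x i b) j a) = 0 := by
  have h := symbol_update_update_neg x hij (a * b)
  have e1 : -(a * b) = (-a) * b := by rw [neg_mul]
  have e2 : ∀ c : Fˣ, symbol (Function.update (Function.update x i (a * b)) j c) =
      symbol (Function.update (Function.update x i a) j c) +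
      symbol (Function.update (Function.update x i b) j c) := by
    intro c
    rw [Function.update_comm hij, symbol_update_mul, Function.update_comm hij.symm,
      Function.update_comm hij.symm]
  rw [e2, e1, symbol_update_mul, symbol_update_update_neg x hij, zero_add, symbol_update_mul] at h
  have e3 : symbol (Function.update (Function.update x i b) j (-a)) =
      symbol (Function.update (Function.update x i b) j (-b)) +
      symbol (Function.update (Function.update x i b) j (a / b)) := by
    rw [← symbol_update_mul]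
    congr 2
    rw [neg_mul, mul_div_cancel]
  rw [e3, symbol_update_update_neg x hij, zero_add, symbol_update_div, sub_add_cancel] at h
  exact h

theorem symbol_comp_swap {n : ℕ} (x : Fin n → Fˣ) {i j : Fin n} (hij : i ≠ j) :
    symbol (x ∘ Equiv.swap i j) = - symbol x := by
  have h := symbol_update_update_add x hij (x j) (x i)
  have e1 : Function.update (Function.update x i (x j)) j (x i) = x ∘ Equiv.swap i j := by
    ext k
    by_cases hk : k = j
    · subst hk; simp
    · by_cases hk' : k = i
      · subst hk'; simp [Function.update_of_ne hk]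
      · simp [Function.update_of_ne hk, Function.update_of_ne hk', Equiv.swap_apply_of_ne_of_ne hk' hk]
  have e2 : Function.update (Function.update x i (x i)) j (x j) = x := by
    simp
  rw [e1, e2] at h
  exact eq_neg_of_add_eq_zero_left h

theorem symbol_comp_perm {n : ℕ} (x : Fin n → Fˣ) (σ : Equiv.Perm (Fin n)) :
    symbol (x ∘ σ) = ((Equiv.Perm.sign σ : ℤˣ) : ℤ) • symbol x := by
  induction σ using Equiv.Perm.swap_induction_on generalizing x with
  | one => simp
  | swap_mul f i j hij ih =>
    have : x ∘ ((Equiv.swap i j * f : Equiv.Perm (Fin n))) = (x ∘ Equiv.swap i j) ∘ f := by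
      ext k; simp
    rw [this, ih, symbol_comp_swap x hij, Equiv.Perm.sign_mul, Equiv.Perm.sign_swap hij]
    simp

/-! ### the vector `Fin.cons` -/

theorem symbol_cons_eq_update {n : ℕ} (a : Fˣ) (x : Fin n → Fˣ) :
    (Fin.cons a x : Fin (n + 1) → Fˣ) = Function.update (Fin.cons 1 x) 0 a := by
  rw [Fin.update_cons_zero]

theorem symbol_cons_mul {n : ℕ} (a b : Fˣ) (x : Fin n → Fˣ) :
    symbol (Fin.cons (a * b) x : Fin (n + 1) → Fˣ) =
      symbol (Fin.cons a x : Fin (n + 1) → Fˣ) + symbol (Fin.cons b x : Fin (n + 1) → Fˣ) := by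
  rw [symbol_cons_eq_update, symbol_update_mul, ← symbol_cons_eq_update, ← symbol_cons_eq_update]

theorem symbol_cons_one {n : ℕ} (x : Fin n → Fˣ) :
    symbol (Fin.cons 1 x : Fin (n + 1) → Fˣ) = 0 :=
  symbol_eq_zero_of_eq_one _ 0 rfl

theorem cons_update {n : ℕ} (a : Fˣ) (x : Fin n → Fˣ) (i : Fin n) (b : Fˣ) :
    (Fin.cons a (Function.update x i b) : Fin (n + 1) → Fˣ) =
      Function.update (Fin.cons a x : Fin (n + 1) → Fˣ) i.succ b := by
  rw [Fin.cons_update]

/-- Left multiplication by `{a}`, as an additive map in both arguments. -/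
noncomputable def consHom (F : Type u) [Field F] (n : ℕ) :
    Additive Fˣ →+ K F n →+ K F (n + 1) :=
  AddMonoidHom.mk' (fun a => MilK.lift
      ((symML F (n + 1)).curryLeft a)
      (by
        intro x hx
        obtain ⟨i, j, hij, h⟩ := hx
        rw [MultilinearMap.curryLeft_apply, symML_apply]
        refine symbol_eq_zero_of_lt _ (i := i.succ) (j := j.succ) (Fin.succ_lt_succ_iff.mpr hij) ?_
        exact h))
    (by
      intro a b
      apply hom_ext
      intro x
      simp only [AddMonoidHom.add_apply, MilK.lift_symbol]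
      rw [map_add]
      rfl)

theorem consHom_symbol {n : ℕ} (a : Additive Fˣ) (x : Fin n → Fˣ) :
    consHom F n a (symbol x) = symbol (Fin.cons a.toMul x : Fin (n + 1) → Fˣ) := by
  rw [consHom, AddMonoidHom.mk'_apply, MilK.lift_symbol, MultilinearMap.curryLeft_apply, symML_apply]
  refine congrArg symbol ?_
  funext i
  refine Fin.cases ?_ (fun j => ?_) i
  · rfl
  · rfl

/-- Left multiplication by `{a}` for a unit `a`. -/
noncomputable def lm {n : ℕ} (a : Fˣ) : K F n →+ K F (n + 1) := consHom F n (Additive.ofMul a)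

@[simp]
theorem lm_symbol {n : ℕ} (a : Fˣ) (x : Fin n → Fˣ) :
    lm a (symbol x) = symbol (Fin.cons a x : Fin (n + 1) → Fˣ) := consHom_symbol _ _

theorem lm_mul {n : ℕ} (a b : Fˣ) : (lm (a * b) : K F n →+ K F (n + 1)) = lm a + lm b := by
  simp only [lm, ofMul_mul, map_add]

theorem lm_mul_apply {n : ℕ} (a b : Fˣ) (z : K F n) : lm (a * b) z = lm a z + lm b z := by
  rw [lm_mul]; rfl

@[simp]
theorem lm_one {n : ℕ} : (lm (1 : Fˣ) : K F n →+ K F (n + 1)) = 0 := by
  simp only [lm, ofMul_one, map_zero]

theorem lm_inv {n : ℕ} (a : Fˣ) : (lm a⁻¹ : K F n →+ K F (n + 1)) = - lm a := by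
  simp only [lm, ofMul_inv, map_neg]

theorem lm_zpow {n : ℕ} (a : Fˣ) (k : ℤ) : (lm (a ^ k) : K F n →+ K F (n + 1)) = k • lm a := by
  simp only [lm, ofMul_zpow, map_zsmul]

theorem lm_zpow_apply {n : ℕ} (a : Fˣ) (k : ℤ) (z : K F n) : lm (a ^ k) z = k • lm a z := by
  rw [lm_zpow]; rfl

theorem lm_lm_steinberg {n : ℕ} (a b : Fˣ) (h : (a : F) + (b : F) = 1) (z : K F n) :
    lm a (lm b z) = 0 := by
  refine hom_ext' (f := (lm a).comp (lm b)) (g := 0) (fun x => ?_) z
  simp only [AddMonoidHom.comp_apply, lm_symbol, AddMonoidHom.zero_apply]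
  refine symbol_eq_zero_of_lt _ (i := 0) (j := 1) (by simp) ?_
  simpa using h

theorem lm_lm_neg {n : ℕ} (a : Fˣ) (z : K F n) : lm a (lm (-a) z) = 0 := by
  refine hom_ext' (f := (lm a).comp (lm (-a))) (g := 0) (fun x => ?_) z
  simp only [AddMonoidHom.comp_apply, lm_symbol, AddMonoidHom.zero_apply]
  exact symbol_eq_zero_of_eq_neg _ (i := 0) (j := 1) (by simp) (by simp)

theorem lm_comm {n : ℕ} (a b : Fˣ) (z : K F n) : lm a (lm b z) = - lm b (lm a z) := by
  have h := lm_lm_neg (a * b) z
  have e1 : lm a (lm (-(a * b)) z) = lm a (lm b z) := by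
    rw [← neg_mul, lm_mul_apply, map_add, lm_lm_neg, zero_add]
  have e2 : lm b (lm (-(a * b)) z) = lm b (lm a z) := by
    rw [← mul_neg, lm_mul_apply, map_add, lm_lm_neg, add_zero]
  rw [lm_mul_apply, e1, e2] at h
  exact eq_neg_of_add_eq_zero_left h

theorem lm_self {n : ℕ} (a : Fˣ) (z : K F n) : lm a (lm a z) = lm a (lm (-1) z) := by
  have h := lm_lm_neg a z
  have e : -a = a * (-1) := by simp
  rw [e, lm_mul_apply, map_add] at h
  have h2 : lm a (lm (-1) z) + lm a (lm (-1) z) = 0 := by
    rw [← map_add, ← lm_mul_apply]; simp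
  have h3 : lm a (lm a z) = - lm a (lm (-1) z) := eq_neg_of_add_eq_zero_left h
  rw [h3]
  exact neg_eq_of_add_eq_zero_left h2

theorem lm_neg_one_add {n : ℕ} (z : K F n) : lm (-1 : Fˣ) z + lm (-1 : Fˣ) z = 0 := by
  rw [← lm_mul_apply]; simp

theorem map_lm {E : Type v} [Field E] (φ : F →+* E) {n : ℕ} (a : Fˣ) (z : K F n) :
    MilK.map φ (n + 1) (lm a z) = lm (Units.map (φ : F →* E) a) (MilK.map φ n z) := by
  refine hom_ext' (f := (MilK.map φ (n + 1)).comp (lm a))
    (g := (lm (Units.map (φ : F →* E) a)).comp (MilK.map φ n)) (fun x => ?_) z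
  simp only [AddMonoidHom.comp_apply, lm_symbol, MilK.map_symbol]
  congr 1
  funext i
  refine Fin.cases ?_ (fun j => ?_) i
  · rfl
  · rfl

/-- Generation by left multiplications. -/
theorem mem_of_lm_mem {n : ℕ} (S : AddSubgroup (K F (n + 1)))
    (h : ∀ (a : Fˣ) (z : K F n), lm a z ∈ S) (z : K F (n + 1)) : z ∈ S := by
  refine mem_of_symbol_mem S (fun x => ?_) z
  have := h (x 0) (symbol (Fin.tail x))
  rwa [lm_symbol, Fin.cons_self_tail] at this

theorem map_map {E : Type v} [Field E] {G : Type w} [Field G] (φ : F →+* E) (ψ : E →+* G) {n : ℕ}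
    (z : K F n) : MilK.map ψ n (MilK.map φ n z) = MilK.map (ψ.comp φ) n z := by
  refine hom_ext' (f := (MilK.map ψ n).comp (MilK.map φ n)) (g := MilK.map (ψ.comp φ) n) (fun x => ?_) z
  simp only [AddMonoidHom.comp_apply, MilK.map_symbol]
  rfl

theorem map_id {n : ℕ} (z : K F n) : MilK.map (RingHom.id F) n z = z := by
  refine hom_ext' (f := (MilK.map (RingHom.id F) n)) (g := AddMonoidHom.id _) (fun x => ?_) z
  simp only [MilK.map_symbol, AddMonoidHom.id_apply]
  congr 1

end K766.Basic
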