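import Groth.Agent.MilnorK.K766.Basic
import Mathlib.RingTheory.DiscreteValuationRing.Basic
import Mathlib.RingTheory.LocalRing.ResidueField.Basic

/-!
# Valuation and unit part for the fraction field of a discrete valuation ring
-/

set_option autoImplicit false
set_option linter.unusedSectionVars false

universe u v w

namespace K766.Val

open MilK K766.Basic IsLocalRing

section

variable (A : Type u) [CommRing A] (L : Type v) [Field L] [Algebra A L] [IsFractionRing A L]

@[simp]
theorem coe_unitToFrac (a : Aˣ) : (unitToFrac A L a : L) = algebraMap A L (a : A) := rfl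

theorem unitToFrac_injective : Function.Injective (unitToFrac A L) := by
  intro a b h
  apply Units.ext
  apply IsFractionRing.injective A L
  exact congrArg Units.val h

theorem unitFrac_mul (a b : A) (ha : a ≠ 0) (hb : b ≠ 0) (hab : a * b ≠ 0) :
    unitFrac A L (a * b) hab = unitFrac A L a ha * unitFrac A L b hb := by
  apply Units.ext; simp

theorem unitFrac_unit (a : Aˣ) (ha : (a : A) ≠ 0) : unitFrac A L (a : A) ha = unitToFrac A L a := by
  apply Units.ext; simp

theorem unitFrac_pow (a : A) (ha : a ≠ 0) (n : ℕ) (han : a ^ n ≠ 0) :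
    unitFrac A L (a ^ n) han = unitFrac A L a ha ^ n := by
  apply Units.ext; simp

theorem unitToFrac_neg_one : unitToFrac A L (-1) = -1 := by
  apply Units.ext; simp

theorem unitToFrac_neg (a : Aˣ) : unitToFrac A L (-a) = - unitToFrac A L a := by
  apply Units.ext; simp

end

variable {A : Type u} [CommRing A] [IsDomain A] [IsDiscreteValuationRing A]
  (L : Type v) [Field L] [Algebra A L] [IsFractionRing A L]

@[simp]
theorem coe_unitResidue (a : Aˣ) : (unitResidue A a : ResidueField A) = residue A (a : A) := rfl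

theorem unitResidue_neg (a : Aˣ) : unitResidue A (-a) = - unitResidue A a := by
  apply Units.ext; simp

theorem unitResidue_surjective : Function.Surjective (unitResidue A) := by
  intro x
  obtain ⟨a, ha⟩ := residue_surjective (x : ResidueField A)
  have hu : IsUnit a := by
    by_contra h
    have : a ∈ maximalIdeal A := h
    rw [← residue_eq_zero_iff] at this
    exact x.ne_zero (by rw [← ha, this])
  exact ⟨hu.unit, Units.ext (by simp [ha])⟩

variable {ϖ : A} (hϖ : Irreducible ϖ)

include hϖ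

theorem exists_decomp (x : Lˣ) : ∃ p : ℤ × Aˣ,
    x = unitFrac A L ϖ hϖ.ne_zero ^ p.1 * unitToFrac A L p.2 := by
  obtain ⟨n, u, hu⟩ := IsDiscreteValuationRing.exists_units_eq_smul_zpow_of_irreducible hϖ x.ne_zero
  refine ⟨(n, u), ?_⟩
  apply Units.ext
  rw [hu]
  simp only [Units.val_mul, Units.val_zpow_eq_zpow_val, coe_unitFrac,
    coe_unitToFrac, Units.smul_def, Algebra.smul_def]
  rw [mul_comm]

theorem zpow_mul_unit_inj {i j : ℤ} {u w : Aˣ}
    (h : unitFrac A L ϖ hϖ.ne_zero ^ i * unitToFrac A L u =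
      unitFrac A L ϖ hϖ.ne_zero ^ j * unitToFrac A L w) : i = j ∧ u = w := by
  have aux : ∀ (k : ℕ) (u w : Aˣ), unitFrac A L ϖ hϖ.ne_zero ^ k * unitToFrac A L u =
      unitToFrac A L w → k = 0 := by
    intro k u w hk
    by_contra hk0
    have h1 : ϖ ^ k * (u : A) = w := by
      apply IsFractionRing.injective A L
      have := congrArg Units.val hk
      simpa using this
    apply hϖ.not_isUnit
    have h2 : IsUnit (ϖ ^ k * (u : A)) := h1 ▸ w.isUnit
    exact isUnit_of_dvd_unit (Dvd.dvd.mul_right (dvd_pow_self ϖ hk0) _) h2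
  have hij : i = j := by
    rcases le_total j i with hle | hle
    · obtain ⟨k, hk⟩ := Int.le.dest hle
      have : unitFrac A L ϖ hϖ.ne_zero ^ k * unitToFrac A L u = unitToFrac A L w := by
        rw [← hk, zpow_add, zpow_natCast, mul_assoc] at h
        exact mul_left_cancel h
      have := aux k u w this
      omega
    · obtain ⟨k, hk⟩ := Int.le.dest hle
      have : unitFrac A L ϖ hϖ.ne_zero ^ k * unitToFrac A L w = unitToFrac A L u := by
        rw [← hk, zpow_add, zpow_natCast, mul_assoc] at h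
        exact (mul_left_cancel h).symm
      have := aux k w u this
      omega
  subst hij
  exact ⟨rfl, unitToFrac_injective A L (mul_left_cancel h)⟩

omit hϖ in
/-- The valuation of `x`, in terms of a chosen uniformizer. -/
noncomputable def val (hϖ : Irreducible ϖ) (x : Lˣ) : ℤ := (exists_decomp L hϖ x).choose.1

omit hϖ in
/-- The unit part of `x`. -/
noncomputable def upart (hϖ : Irreducible ϖ) (x : Lˣ) : Aˣ := (exists_decomp L hϖ x).choose.2

theorem decomp (x : Lˣ) :
    x = unitFrac A L ϖ hϖ.ne_zero ^ val L hϖ x * unitToFrac A L (upart L hϖ x) :=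
  (exists_decomp L hϖ x).choose_spec

theorem val_upart_zpow_mul (i : ℤ) (u : Aˣ) :
    val L hϖ (unitFrac A L ϖ hϖ.ne_zero ^ i * unitToFrac A L u) = i ∧
      upart L hϖ (unitFrac A L ϖ hϖ.ne_zero ^ i * unitToFrac A L u) = u := by
  have := zpow_mul_unit_inj L hϖ
    (decomp L hϖ (unitFrac A L ϖ hϖ.ne_zero ^ i * unitToFrac A L u))
  exact ⟨this.1.symm, this.2.symm⟩

@[simp]
theorem val_zpow_mul (i : ℤ) (u : Aˣ) :
    val L hϖ (unitFrac A L ϖ hϖ.ne_zero ^ i * unitToFrac A L u) = i :=
  (val_upart_zpow_mul L hϖ i u).1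

@[simp]
theorem upart_zpow_mul (i : ℤ) (u : Aˣ) :
    upart L hϖ (unitFrac A L ϖ hϖ.ne_zero ^ i * unitToFrac A L u) = u :=
  (val_upart_zpow_mul L hϖ i u).2

theorem val_upart_mul (x y : Lˣ) : val L hϖ (x * y) = val L hϖ x + val L hϖ y ∧
    upart L hϖ (x * y) = upart L hϖ x * upart L hϖ y := by
  have h : x * y = unitFrac A L ϖ hϖ.ne_zero ^ (val L hϖ x + val L hϖ y) *
      unitToFrac A L (upart L hϖ x * upart L hϖ y) := by
    conv_lhs => rw [decomp L hϖ x, decomp L hϖ y]
    rw [zpow_add, map_mul]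
    exact mul_mul_mul_comm _ _ _ _
  rw [h, val_zpow_mul, upart_zpow_mul]
  exact ⟨rfl, rfl⟩

theorem val_mul (x y : Lˣ) : val L hϖ (x * y) = val L hϖ x + val L hϖ y :=
  (val_upart_mul L hϖ x y).1

theorem upart_mul (x y : Lˣ) : upart L hϖ (x * y) = upart L hϖ x * upart L hϖ y :=
  (val_upart_mul L hϖ x y).2

@[simp]
theorem val_unit (u : Aˣ) : val L hϖ (unitToFrac A L u) = 0 := by
  have := val_zpow_mul L hϖ 0 u
  simpa using this

@[simp]
theorem upart_unit (u : Aˣ) : upart L hϖ (unitToFrac A L u) = u := by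
  have := upart_zpow_mul L hϖ 0 u
  simpa using this

/-- Any uniformizer has valuation one. -/
theorem val_irreducible {ϖ' : A} (hϖ' : Irreducible ϖ') :
    val L hϖ (unitFrac A L ϖ' hϖ'.ne_zero) = 1 := by
  obtain ⟨u, hu⟩ := IsDiscreteValuationRing.associated_of_irreducible A hϖ hϖ'
  have : unitFrac A L ϖ' hϖ'.ne_zero = unitFrac A L ϖ hϖ.ne_zero ^ (1 : ℤ) * unitToFrac A L u := by
    apply Units.ext
    simp [← hu]
  rw [this, val_zpow_mul]

theorem val_uniformizer : val L hϖ (unitFrac A L ϖ hϖ.ne_zero) = 1 := val_irreducible L hϖ hϖ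

theorem upart_uniformizer : upart L hϖ (unitFrac A L ϖ hϖ.ne_zero) = 1 := by
  have := upart_zpow_mul L hϖ 1 1
  simpa using this

/-- The trichotomy for `a + b = 1`. -/
theorem steinberg_cases (a b : Lˣ) (hab : (a : L) + (b : L) = 1) :
    (val L hϖ a = 0 ∧ residue A (upart L hϖ a : A) = 1) ∨
    (val L hϖ b = 0 ∧ residue A (upart L hϖ b : A) = 1) ∨
    (val L hϖ a = 0 ∧ val L hϖ b = 0 ∧
      residue A (upart L hϖ a : A) + residue A (upart L hϖ b : A) = 1) ∨
    (val L hϖ a = val L hϖ b ∧ unitResidue A (upart L hϖ b) = - unitResidue A (upart L hϖ a)) := by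
  have ha := decomp L hϖ a
  have hb := decomp L hϖ b
  set i := val L hϖ a
  set j := val L hϖ b
  set x := upart L hϖ a
  set y := upart L hϖ b
  have hπ0 : algebraMap A L ϖ ≠ 0 := (unitFrac A L ϖ hϖ.ne_zero).ne_zero
  have hinj := IsFractionRing.injective A L
  have hresϖ : ∀ k : ℕ, k ≠ 0 → residue A (ϖ ^ k) = 0 := by
    intro k hk
    rw [map_pow, (residue_eq_zero_iff ϖ).mpr ?_, zero_pow hk]
    exact hϖ.not_isUnit
  have e : algebraMap A L ϖ ^ i * algebraMap A L (x : A) +
      algebraMap A L ϖ ^ j * algebraMap A L (y : A) = 1 := by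
    rw [ha, hb] at hab
    simpa [Units.val_mul, Units.val_zpow_eq_zpow_val] using hab
  -- a unit `w` of `A` with `π^k w = 1` forces `k = 0`, `w = 1`
  have key : ∀ (k : ℤ) (w : A), IsUnit w → algebraMap A L ϖ ^ k * algebraMap A L w = 1 →
      k = 0 ∧ w = 1 := by
    intro k w hw h
    have h2 : unitFrac A L ϖ hϖ.ne_zero ^ k * unitToFrac A L hw.unit =
        unitFrac A L ϖ hϖ.ne_zero ^ (0 : ℤ) * unitToFrac A L 1 := by
      apply Units.ext
      simpa [Units.val_mul, Units.val_zpow_eq_zpow_val] using h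
    obtain ⟨h3, h4⟩ := zpow_mul_unit_inj L hϖ h2
    exact ⟨h3, by rw [← hw.unit_spec, h4, Units.val_one]⟩
  have hunit : ∀ (x y : Aˣ) (k : ℕ), k ≠ 0 → IsUnit ((x : A) + ϖ ^ k * y) := by
    intro x y k hk
    rw [← residue_ne_zero_iff_isUnit, map_add, map_mul, hresϖ k hk, zero_mul, add_zero]
    rw [residue_ne_zero_iff_isUnit]
    exact x.isUnit
  rcases lt_trichotomy i j with hij | hij | hij
  · -- i < j : then i = 0
    obtain ⟨k, hk⟩ := Int.le.dest hij.le
    have hk0 : k ≠ 0 := by omega
    have e2 : algebraMap A L ϖ ^ i * algebraMap A L ((x : A) + ϖ ^ k * y) = 1 := by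
      rw [map_add, map_mul, map_pow, mul_add, ← e, ← hk, zpow_add₀ hπ0, zpow_natCast]
      ring
    obtain ⟨h1, h2⟩ := key i _ (hunit x y k hk0) e2
    left
    refine ⟨h1, ?_⟩
    have := congrArg (residue A) h2
    rwa [map_add, map_mul, hresϖ k hk0, zero_mul, add_zero, map_one] at this
  · by_cases hi : i = 0
    · right; right; left
      refine ⟨hi, by omega, ?_⟩
      rw [← hij, hi, zpow_zero, one_mul, one_mul, ← map_add, ← map_one (algebraMap A L)] at e
      rw [← map_add, hinj e, map_one]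
    · right; right; right
      refine ⟨hij, ?_⟩
      have hnu : ¬ IsUnit ((x : A) + y) := by
        intro hu
        apply hi
        refine (key i _ hu ?_).1
        rw [map_add, mul_add, ← e, ← hij]
      rw [← residue_ne_zero_iff_isUnit, not_not, map_add] at hnu
      apply Units.ext
      rw [Units.val_neg, coe_unitResidue, coe_unitResidue]
      exact (neg_eq_of_add_eq_zero_right hnu).symm
  · obtain ⟨k, hk⟩ := Int.le.dest hij.le
    have hk0 : k ≠ 0 := by omega
    have e2 : algebraMap A L ϖ ^ j * algebraMap A L ((y : A) + ϖ ^ k * x) = 1 := by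
      rw [map_add, map_mul, map_pow, mul_add, ← e, ← hk, zpow_add₀ hπ0, zpow_natCast]
      ring
    obtain ⟨h1, h2⟩ := key j _ (hunit y x k hk0) e2
    right; left
    refine ⟨h1, ?_⟩
    have := congrArg (residue A) h2
    rwa [map_add, map_mul, hresϖ k hk0, zero_mul, add_zero, map_one] at this

end K766.Val
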