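import Groth.Agent.MilnorK.K766.RingLift
import Groth.Agent.MilnorK.K766.Val

/-!
# The tame symbol and the specialization map of a discrete valuation

Let `A` be a discrete valuation ring with uniformizer `ϖ`, fraction field `L`, residue field `κ`.
Following Serre, `Lˣ` acts on `(⊕ K_n κ) ⊕ (⊕ K_n κ)·ξ`; the action gives the maps
`K766.Tame.spec` and `K766.Tame.tame`.
-/

set_option autoImplicit false
set_option linter.unusedSectionVars false

universe u v w

namespace K766.Tame

open MilK K766.Basic K766.RingLift K766.Val IsLocalRing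

section Operators

variable (κ : Type u) [Field κ]

/-- All degrees at once. -/
abbrev V : Type u := ∀ n : ℕ, K κ n

/-- Left multiplication by `{u}` in all degrees at once. -/
noncomputable def ell : Additive κˣ →+ (V κ →+ V κ) :=
  AddMonoidHom.mk' (fun u => AddMonoidHom.mk' (fun f n => match n with
      | 0 => 0
      | n + 1 => lm u.toMul (f n))
    (by
      intro f g
      funext n
      cases n with
      | zero => simp
      | succ n => simp))
    (by
      intro a b
      ext f n
      cases n with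
      | zero => simp
      | succ n => simp [lm_mul_apply])

variable {κ}

@[simp]
theorem ell_zero (u : Additive κˣ) (f : V κ) : ell κ u f 0 = 0 := rfl

@[simp]
theorem ell_succ (u : Additive κˣ) (f : V κ) (n : ℕ) : ell κ u f (n + 1) = lm u.toMul (f n) := rfl

theorem ell_comm (u w : κˣ) (f : V κ) :
    ell κ (Additive.ofMul u) (ell κ (Additive.ofMul w) f) =
      - ell κ (Additive.ofMul w) (ell κ (Additive.ofMul u) f) := by
  funext n
  rcases n with _ | _ | n
  · simp
  · simp
  · simp only [ell_succ, toMul_ofMul, Pi.neg_apply]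
    exact lm_comm _ _ _

theorem ell_steinberg (u w : κˣ) (h : (u : κ) + (w : κ) = 1) (f : V κ) :
    ell κ (Additive.ofMul u) (ell κ (Additive.ofMul w) f) = 0 := by
  funext n
  rcases n with _ | _ | n
  · simp
  · simp
  · simp only [ell_succ, toMul_ofMul, Pi.zero_apply]
    exact lm_lm_steinberg _ _ h _

theorem ell_neg (u : κˣ) (f : V κ) :
    ell κ (Additive.ofMul u) (ell κ (Additive.ofMul (-u)) f) = 0 := by
  funext n
  rcases n with _ | _ | n
  · simp
  · simp
  · simp only [ell_succ, toMul_ofMul, Pi.zero_apply]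
    exact lm_lm_neg _ _

variable (κ)

/-- The operator `M(u)(s, d) = ({u}s, -{u}d)`. -/
noncomputable def opM : Additive κˣ →+ Module.End ℤ (V κ × V κ) :=
  AddMonoidHom.mk' (fun u => (AddMonoidHom.mk' (fun p : V κ × V κ => (ell κ u p.1, - ell κ u p.2))
      (by intro p q; ext n <;> simp [add_comm])).toIntLinearMap)
    (by
      intro a b
      refine LinearMap.ext fun p => ?_
      change (ell κ (a + b) p.1, - ell κ (a + b) p.2) =
        (ell κ a p.1, - ell κ a p.2) + (ell κ b p.1, - ell κ b p.2)
      rw [map_add, AddMonoidHom.add_apply, AddMonoidHom.add_apply, Prod.mk_add_mk, neg_add])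

/-- The operator `N(s, d) = (0, s + {-1}d)`. -/
noncomputable def opN : Module.End ℤ (V κ × V κ) :=
  (AddMonoidHom.mk' (fun p : V κ × V κ => ((0 : V κ), p.1 + ell κ (Additive.ofMul (-1)) p.2))
    (by
      intro p q
      rw [Prod.fst_add, Prod.snd_add, map_add, Prod.mk_add_mk, zero_add]
      congr 1
      abel)).toIntLinearMap

variable {κ}

theorem opM_apply (u : Additive κˣ) (p : V κ × V κ) : opM κ u p = (ell κ u p.1, - ell κ u p.2) := rfl

theorem opN_apply (p : V κ × V κ) : opN κ p = (0, p.1 + ell κ (Additive.ofMul (-1)) p.2) := rfl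

theorem opM_mul_opM (u w : Additive κˣ) (p : V κ × V κ) :
    (opM κ u * opM κ w) p = (ell κ u (ell κ w p.1), ell κ u (ell κ w p.2)) := by
  rw [Module.End.mul_apply, opM_apply, opM_apply]
  simp

theorem opM_steinberg (u w : κˣ) (h : (u : κ) + (w : κ) = 1) :
    opM κ (Additive.ofMul u) * opM κ (Additive.ofMul w) = 0 := by
  refine LinearMap.ext fun p => ?_
  rw [opM_mul_opM, ell_steinberg u w h, ell_steinberg u w h]
  rfl

theorem opM_neg (u : κˣ) : opM κ (Additive.ofMul u) * opM κ (Additive.ofMul (-u)) = 0 := by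
  refine LinearMap.ext fun p => ?_
  rw [opM_mul_opM, ell_neg, ell_neg]
  rfl

theorem opN_mul_opM (u : κˣ) :
    opN κ * opM κ (Additive.ofMul u) = - (opM κ (Additive.ofMul u) * opN κ) := by
  refine LinearMap.ext fun p => ?_
  rw [Module.End.mul_apply, LinearMap.neg_apply, Module.End.mul_apply, opM_apply, opN_apply,
    opN_apply, opM_apply]
  simp only [map_neg, map_zero, map_add, Prod.neg_mk, neg_zero, neg_neg]
  rw [ell_comm (-1) u]
  simp

theorem opM_neg_one_add : opM κ (Additive.ofMul (-1)) + opM κ (Additive.ofMul (-1)) = 0 := by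
  rw [← map_add, ← ofMul_mul]
  simp

theorem opN_mul_opN : opN κ * opN κ = opN κ * opM κ (Additive.ofMul (-1)) := by
  have h : opN κ * opN κ = opM κ (Additive.ofMul (-1)) * opN κ := by
    have h1 : opN κ * opN κ = - (opM κ (Additive.ofMul (-1)) * opN κ) := by
      refine LinearMap.ext fun p => ?_
      rw [LinearMap.neg_apply, Module.End.mul_apply, Module.End.mul_apply, opM_apply,
        opN_apply, opN_apply]
      simp
    have h2 : opM κ (Additive.ofMul (-1)) * opN κ + opM κ (Additive.ofMul (-1)) * opN κ = 0 := by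
      rw [← add_mul, opM_neg_one_add, zero_mul]
    rw [h1, neg_eq_of_add_eq_zero_left h2]
  rw [h, opN_mul_opM, eq_neg_iff_add_eq_zero, ← add_mul, opM_neg_one_add, zero_mul]

end Operators

section Maps

variable {A : Type u} [CommRing A] [IsDomain A] [IsDiscreteValuationRing A]
  (L : Type v) [Field L] [Algebra A L] [IsFractionRing A L]
  {ϖ : A} (hϖ : Irreducible ϖ)

/-- The action of `Lˣ`. -/
noncomputable def rho : Additive Lˣ →+ Module.End ℤ (V (ResidueField A) × V (ResidueField A)) :=
  AddMonoidHom.mk' (fun a => val L hϖ a.toMul • opN (ResidueField A) +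
      opM (ResidueField A) (Additive.ofMul (unitResidue A (upart L hϖ a.toMul))))
    (by
      intro a b
      rw [toMul_add, val_mul, upart_mul, map_mul, ofMul_mul, map_add, add_smul]
      abel)

theorem rho_apply (a : Lˣ) : rho L hϖ (Additive.ofMul a) = val L hϖ a • opN (ResidueField A) +
      opM (ResidueField A) (Additive.ofMul (unitResidue A (upart L hϖ a))) := rfl

theorem isStein_rho : IsStein (rho L hϖ) := by
  intro a b hab
  rw [rho_apply, rho_apply]
  have one_case : ∀ c : Lˣ, val L hϖ c = 0 → residue A (upart L hϖ c : A) = 1 →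
      val L hϖ c • opN (ResidueField A) +
      opM (ResidueField A) (Additive.ofMul (unitResidue A (upart L hϖ c))) = 0 := by
    intro c h1 h2
    have : unitResidue A (upart L hϖ c) = 1 := Units.ext (by simpa using h2)
    rw [h1, this, zero_smul, zero_add, ofMul_one, map_zero]
  rcases steinberg_cases L hϖ a b hab with ⟨h1, h2⟩ | ⟨h1, h2⟩ | ⟨h1, h2, h3⟩ | ⟨h1, h2⟩
  · rw [one_case a h1 h2, zero_mul]
  · rw [one_case b h1 h2, mul_zero]
  · rw [h1, h2, zero_smul, zero_add, zero_add]
    apply opM_steinberg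
    simpa using h3
  · rw [← h1, h2]
    set i := val L hϖ a
    set x := unitResidue A (upart L hϖ a)
    rw [add_mul, mul_add, mul_add, opM_neg, add_zero, smul_mul_smul_comm, opN_mul_opN]
    rw [smul_mul_assoc, mul_smul_comm]
    have e1 : opM (ResidueField A) (Additive.ofMul x) * opN (ResidueField A) =
        - (opN (ResidueField A) * opM (ResidueField A) (Additive.ofMul x)) := by
      rw [opN_mul_opM, neg_neg]
    have e2 : opM (ResidueField A) (Additive.ofMul (-x)) =
        opM (ResidueField A) (Additive.ofMul (-1)) + opM (ResidueField A) (Additive.ofMul x) := by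
      rw [← map_add, ← ofMul_mul, neg_mul, one_mul]
    rw [e1, e2, mul_add, smul_add, smul_neg]
    have e3 : opN (ResidueField A) * opM (ResidueField A) (Additive.ofMul (-1)) +
        opN (ResidueField A) * opM (ResidueField A) (Additive.ofMul (-1)) = 0 := by
      rw [← mul_add, opM_neg_one_add, mul_zero]
    have e4 : (i * i) • (opN (ResidueField A) * opM (ResidueField A) (Additive.ofMul (-1))) +
        i • (opN (ResidueField A) * opM (ResidueField A) (Additive.ofMul (-1))) = 0 := by
      rw [← add_smul]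
      obtain ⟨k, hk⟩ : Even (i * i + i) := by
        have := Int.even_mul_succ_self i
        rwa [mul_add, mul_one] at this
      rw [hk, ← two_mul, mul_comm, mul_smul, two_smul, e3, smul_zero]
    rw [add_assoc, add_assoc, add_neg_cancel, add_zero]
    exact e4

/-- The unit vector: the empty symbol in degree `0`. -/
noncomputable def delta (κ : Type u) [Field κ] : V κ
  | 0 => symbol Fin.elim0
  | _ + 1 => 0

/-- The specialization map attached to the uniformizer `ϖ`. -/
noncomputable def spec (n : ℕ) : K L n →+ K (ResidueField A) n :=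
  AddMonoidHom.mk' (fun z => (liftRing (rho L hϖ) (isStein_rho L hϖ) n z (delta _, 0)).1 n)
    (by intro a b; rw [map_add]; rfl)

/-- The tame symbol of the discrete valuation (constructed with the help of `ϖ`). -/
noncomputable def tame (n : ℕ) : K L (n + 1) →+ K (ResidueField A) n :=
  AddMonoidHom.mk' (fun z => (liftRing (rho L hϖ) (isStein_rho L hϖ) (n + 1) z (delta _, 0)).2 n)
    (by intro a b; rw [map_add]; rfl)

theorem spec_zero (x : Fin 0 → Lˣ) : spec L hϖ 0 (symbol x) = symbol Fin.elim0 := by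
  have : x = Fin.elim0 := Subsingleton.elim _ _
  subst this
  simp only [spec, AddMonoidHom.mk'_apply, liftRing_zero]
  rfl

theorem spec_lm {n : ℕ} (a : Lˣ) (z : K L n) :
    spec L hϖ (n + 1) (lm a z) = lm (unitResidue A (upart L hϖ a)) (spec L hϖ n z) := by
  simp only [spec, AddMonoidHom.mk'_apply, liftRing_lm, rho_apply]
  rw [Module.End.mul_apply, LinearMap.add_apply]
  simp [opM_apply, opN_apply]

theorem tame_lm_zero (a : Lˣ) (z : K L 0) :
    tame L hϖ 0 (lm a z) = val L hϖ a • spec L hϖ 0 z := by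
  simp only [spec, tame, AddMonoidHom.mk'_apply, liftRing_lm, rho_apply]
  rw [Module.End.mul_apply, LinearMap.add_apply]
  simp [opM_apply, opN_apply]

theorem tame_lm_succ {n : ℕ} (a : Lˣ) (z : K L (n + 1)) :
    tame L hϖ (n + 1) (lm a z) = val L hϖ a • spec L hϖ (n + 1) z +
      val L hϖ a • lm (-1) (tame L hϖ n z) -
      lm (unitResidue A (upart L hϖ a)) (tame L hϖ n z) := by
  simp only [spec, tame, AddMonoidHom.mk'_apply, liftRing_lm, rho_apply]
  rw [Module.End.mul_apply, LinearMap.add_apply]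
  simp [opM_apply, opN_apply, sub_eq_add_neg]

/-- `{u₁, …, uₙ}` for units of `A`. -/
noncomputable def usym {n : ℕ} (u : Fin n → Aˣ) : K L n := symbol fun i => unitToFrac A L (u i)

theorem usym_cons {n : ℕ} (u : Fin (n + 1) → Aˣ) :
    usym L u = lm (unitToFrac A L (u 0)) (usym L (fun i => u i.succ)) := by
  rw [usym, usym, lm_symbol]
  congr 1
  funext i
  refine Fin.cases ?_ (fun j => ?_) i <;> rfl

theorem lm_usym {n : ℕ} (a : Aˣ) (u : Fin n → Aˣ) :
    lm (unitToFrac A L a) (usym L u) = usym L (Fin.cons a u : Fin (n + 1) → Aˣ) := by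
  rw [usym_cons]
  rfl

theorem symbol_cons' {κ : Type u} [Field κ] {n : ℕ} (u : Fin (n + 1) → κˣ) :
    symbol u = lm (u 0) (symbol fun i => u i.succ) := by
  rw [lm_symbol]
  congr 1
  exact (Fin.cons_self_tail u).symm

theorem spec_symbol {n : ℕ} (e : Fin n → ℤ) (u : Fin n → Aˣ) :
    spec L hϖ n (symbol fun i => unitFrac A L ϖ hϖ.ne_zero ^ e i * unitToFrac A L (u i)) =
      symbol fun i => unitResidue A (u i) := by
  induction n with
  | zero => rw [spec_zero]; congr 1; exact Subsingleton.elim _ _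
  | succ n ih =>
    rw [symbol_cons', spec_lm, ih (fun i => e i.succ) (fun i => u i.succ), upart_zpow_mul,
      symbol_cons' (fun i => unitResidue A (u i))]

theorem spec_usym {n : ℕ} (u : Fin n → Aˣ) :
    spec L hϖ n (usym L u) = symbol fun i => unitResidue A (u i) := by
  have := spec_symbol L hϖ (fun _ => 0) u
  simpa [usym] using this

theorem tame_usym {n : ℕ} (u : Fin (n + 1) → Aˣ) : tame L hϖ n (usym L u) = 0 := by
  induction n with
  | zero => rw [usym_cons, tame_lm_zero, val_unit, zero_smul]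
  | succ n ih => rw [usym_cons, tame_lm_succ, val_unit, ih]; simp

theorem isSpecMap (n : ℕ) : IsSpecMap A L ϖ hϖ n (spec L hϖ n) :=
  fun e u => spec_symbol L hϖ e u

theorem tame_lm_usym {n : ℕ} (a : Lˣ) (u : Fin n → Aˣ) :
    tame L hϖ n (lm a (usym L u)) = val L hϖ a • symbol fun i => unitResidue A (u i) := by
  cases n with
  | zero => rw [tame_lm_zero, spec_usym]
  | succ n => rw [tame_lm_succ, tame_usym, spec_usym]; simp

theorem isTameSymbol (n : ℕ) : IsTameSymbol A L n (tame L hϖ n) := by
  intro ϖ' hϖ' u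
  have : (symbol (Fin.cons (unitFrac A L ϖ' hϖ'.ne_zero) fun i => unitToFrac A L (u i)) : K L (n + 1)) =
      lm (unitFrac A L ϖ' hϖ'.ne_zero) (usym L u) := by
    rw [usym, lm_symbol]
  rw [this, tame_lm_usym, val_irreducible L hϖ hϖ', one_smul]

/-! ### Generators and uniqueness -/

/-- The subgroup generated by the symbols of units of `A`. -/
noncomputable def U (A : Type u) [CommRing A] [IsDomain A] [IsDiscreteValuationRing A]
    (L : Type v) [Field L] [Algebra A L] [IsFractionRing A L] (n : ℕ) : AddSubgroup (K L n) :=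
  AddSubgroup.closure {z | ∃ u : Fin n → Aˣ, z = symbol fun i => unitToFrac A L (u i)}

theorem usym_mem_U {n : ℕ} (u : Fin n → Aˣ) : usym L u ∈ U A L n :=
  AddSubgroup.subset_closure ⟨u, rfl⟩

theorem lm_mem_U {n : ℕ} (a : Aˣ) {z : K L n} (hz : z ∈ U A L n) :
    lm (unitToFrac A L a) z ∈ U A L (n + 1) := by
  induction hz using AddSubgroup.closure_induction with
  | mem x hx =>
    obtain ⟨u, rfl⟩ := hx
    have := usym_mem_U L (Fin.cons a u : Fin (n + 1) → Aˣ)
    rw [← lm_usym] at this
    exact this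
  | zero => rw [map_zero]; exact zero_mem _
  | add x y _ _ hx hy => rw [map_add]; exact add_mem hx hy
  | neg x _ hx => rw [map_neg]; exact neg_mem hx

theorem lm_neg_one_mem_U {n : ℕ} {z : K L n} (hz : z ∈ U A L n) :
    lm (-1) z ∈ U A L (n + 1) := by
  have := lm_mem_U L (-1 : Aˣ) hz
  rwa [unitToFrac_neg_one] at this

theorem mem_U_zero (z : K L 0) : z ∈ U A L 0 := by
  refine mem_of_symbol_mem _ (fun x => ?_) z
  have := usym_mem_U (A := A) L (Fin.elim0 : Fin 0 → Aˣ)
  convert this using 1
  rw [usym]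
  congr 1
  exact Subsingleton.elim _ _

/-- `K_{n+1}(L) = {ϖ}·U_n + U_{n+1}`. -/
theorem exists_decomp_K (n : ℕ) (z : K L (n + 1)) :
    ∃ y ∈ U A L n, ∃ w ∈ U A L (n + 1), z = lm (unitFrac A L ϖ hϖ.ne_zero) y + w := by
  suffices h : z ∈ (U A L n).map (lm (unitFrac A L ϖ hϖ.ne_zero)) ⊔ U A L (n + 1) by
    obtain ⟨_, ⟨y, hy, rfl⟩, w, hw, h⟩ := AddSubgroup.mem_sup.mp h
    exact ⟨y, hy, w, hw, h.symm⟩
  induction n with
  | zero =>
    refine mem_of_lm_mem _ (fun a y => ?_) z
    rw [decomp L hϖ a, lm_mul_apply, lm_zpow_apply, ← map_zsmul]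
    exact add_mem (AddSubgroup.mem_sup_left ⟨_, mem_U_zero L _, rfl⟩)
      (AddSubgroup.mem_sup_right (lm_mem_U L _ (mem_U_zero L _)))
  | succ n ih =>
    refine mem_of_lm_mem _ (fun a w => ?_) z
    obtain ⟨_, ⟨y, hy, rfl⟩, w', hw, rfl⟩ := AddSubgroup.mem_sup.mp (ih w)
    rw [decomp L hϖ a, lm_mul_apply, lm_zpow_apply, map_add, map_add]
    refine add_mem (AddSubgroup.zsmul_mem _ (add_mem ?_ ?_) _) (add_mem ?_ ?_)
    · rw [lm_self]
      exact AddSubgroup.mem_sup_left ⟨_, lm_neg_one_mem_U L hy, rfl⟩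
    · exact AddSubgroup.mem_sup_left ⟨_, hw, rfl⟩
    · rw [lm_comm, ← map_neg]
      exact AddSubgroup.mem_sup_left ⟨_, neg_mem (lm_mem_U L _ hy), rfl⟩
    · exact AddSubgroup.mem_sup_right (lm_mem_U L _ hw)

/-- Two additive maps out of `K_{n+1}(L)` agreeing on `{ϖ', u₁, …, uₙ}` for all uniformizers `ϖ'`
are equal. -/
theorem hom_ext_uniformizers {n : ℕ} {M : Type w} [AddCommGroup M] {f g : K L (n + 1) →+ M}
    (hϖ : Irreducible ϖ)
    (h : ∀ (ϖ' : A) (hϖ' : Irreducible ϖ') (u : Fin n → Aˣ),
      f (lm (unitFrac A L ϖ' hϖ'.ne_zero) (usym L u)) =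
        g (lm (unitFrac A L ϖ' hϖ'.ne_zero) (usym L u))) : f = g := by
  have h1 : ∀ y ∈ U A L n, f (lm (unitFrac A L ϖ hϖ.ne_zero) y) =
      g (lm (unitFrac A L ϖ hϖ.ne_zero) y) := by
    intro y hy
    induction hy using AddSubgroup.closure_induction with
    | mem x hx => obtain ⟨u, rfl⟩ := hx; exact h ϖ hϖ u
    | zero => simp
    | add x y _ _ hx hy => simp only [map_add, hx, hy]
    | neg x _ hx => simp only [map_neg, hx]
  have h2 : ∀ y ∈ U A L (n + 1), f y = g y := by
    intro y hy
    induction hy using AddSubgroup.closure_induction with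
    | mem x hx =>
      obtain ⟨u, rfl⟩ := hx
      change f (usym L u) = g (usym L u)
      have hϖ' : Irreducible (ϖ * (u 0 : A)) :=
        (Associated.irreducible_iff ⟨u 0, rfl⟩).mp hϖ
      have e : unitFrac A L (ϖ * (u 0 : A)) hϖ'.ne_zero =
          unitFrac A L ϖ hϖ.ne_zero * unitToFrac A L (u 0) := by
        apply Units.ext; simp
      have h3 := h _ hϖ' (fun i => u i.succ)
      rw [e, lm_mul_apply, map_add, map_add, h ϖ hϖ] at h3
      rw [usym_cons]
      exact add_left_cancel h3
    | zero => simp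
    | add x y _ _ hx hy => simp only [map_add, hx, hy]
    | neg x _ hx => simp only [map_neg, hx]
  ext z
  obtain ⟨y, hy, w, hw, rfl⟩ := exists_decomp_K L hϖ n z
  rw [map_add, map_add, h1 y hy, h2 w hw]

theorem lm_usym_eq {n : ℕ} (a : Lˣ) (u : Fin n → Aˣ) :
    lm a (usym L u) = symbol (Fin.cons a fun i => unitToFrac A L (u i)) := by
  rw [usym, lm_symbol]

theorem eq_tame {n : ℕ} {d : K L (n + 1) →+ K (ResidueField A) n} (hd : IsTameSymbol A L n d) :
    d = tame L hϖ n := by
  refine hom_ext_uniformizers (A := A) L hϖ (fun ϖ' hϖ' u => ?_)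
  rw [lm_usym_eq, hd ϖ' hϖ' u, isTameSymbol L hϖ n ϖ' hϖ' u]

theorem eq_spec {n : ℕ} {s : K L n →+ K (ResidueField A) n} (hs : IsSpecMap A L ϖ hϖ n s) :
    s = spec L hϖ n := by
  apply hom_ext
  intro x
  have hx : x = fun i => unitFrac A L ϖ hϖ.ne_zero ^ (val L hϖ (x i)) *
      unitToFrac A L (upart L hϖ (x i)) := by
    funext i; exact decomp L hϖ (x i)
  rw [hx, hs, spec_symbol]

end Maps

end K766.Tame
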