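import Groth.Agent.MilnorK.K766.Basic

/-!
# Products, casts and graded commutativity in Milnor K-groups
-/

set_option autoImplicit false

universe u v w

namespace K766.Mul

open MilK K766.Basic

variable {F : Type u} [Field F]

theorem cast_eq {n m : ℕ} (h h' : n = m) (z : K F n) : MilK.cast F h z = MilK.cast F h' z := rfl

theorem cast_self {n : ℕ} (h : n = n) (z : K F n) : MilK.cast F h z = z := rfl

theorem cast_cast {n m l : ℕ} (h : n = m) (h' : m = l) (z : K F n) :
    MilK.cast F h' (MilK.cast F h z) = MilK.cast F (h.trans h') z := by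
  subst h; subst h'; rfl

theorem map_cast {E : Type v} [Field E] (φ : F →+* E) {n m : ℕ} (h : n = m) (z : K F n) :
    MilK.map φ m (MilK.cast F h z) = MilK.cast E h (MilK.map φ n z) := by
  subst h; rfl

theorem lm_cast {n m : ℕ} (h : n = m) (a : Fˣ) (z : K F n) :
    lm a (MilK.cast F h z) = MilK.cast F (congrArg (· + 1) h) (lm a z) := by
  subst h; rfl

/-- Extensionality for bi-additive maps. -/
theorem hom_ext₂ {n m : ℕ} {M : Type w} [AddCommGroup M] {f g : K F n →+ K F m →+ M}
    (h : ∀ (x : Fin n → Fˣ) (y : Fin m → Fˣ), f (symbol x) (symbol y) = g (symbol x) (symbol y)) :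
    f = g :=
  hom_ext fun x => hom_ext fun y => h x y

theorem finRotate_pow_val (N k : ℕ) (i : Fin (N + 1)) :
    (((finRotate (N + 1)) ^ k) i : ℕ) = (i + k) % (N + 1) := by
  induction k with
  | zero => simp [Nat.mod_eq_of_lt i.isLt]
  | succ k ih =>
    rw [pow_succ', Equiv.Perm.mul_apply, finRotate_apply, Fin.val_add, ih]
    simp only [Fin.val_one', Nat.add_mod_mod, Nat.mod_add_mod]
    rw [add_assoc]

theorem symbol_append_comm {n m : ℕ} (a : Fin n → Fˣ) (b : Fin m → Fˣ) :
    symbol (Fin.append a b) =
      ((-1 : ℤ) ^ (n * m)) • symbol (Fin.append b a ∘ Fin.cast (Nat.add_comm m n).symm) := by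
  rcases Nat.eq_zero_or_pos (n + m) with h0 | hpos
  · have hn : n = 0 := by omega
    have hm : m = 0 := by omega
    subst hn; subst hm
    simp only [mul_zero, pow_zero, one_smul]
    congr 1
    ext i
    exact i.elim0
  · obtain ⟨N, hN⟩ : ∃ N, n + m = N + 1 := ⟨n + m - 1, by omega⟩
    -- the rotation as a permutation of `Fin (n + m)`
    let σ : Equiv.Perm (Fin (n + m)) :=
      (finCongr hN).permCongr.symm ((finRotate (N + 1)) ^ m)
    have hσ : ∀ i : Fin (n + m), ((σ i : Fin (n + m)) : ℕ) = (i + m) % (n + m) := by
      intro i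
      simp only [σ, Equiv.permCongr_symm, Equiv.permCongr_apply, finCongr_symm, finCongr_apply_coe]
      rw [finRotate_pow_val, finCongr_apply_coe, ← hN]
    have hsign : ((Equiv.Perm.sign σ : ℤˣ) : ℤ) = (-1) ^ (n * m) := by
      simp only [σ, Equiv.permCongr_symm, Equiv.Perm.sign_permCongr, map_pow, sign_finRotate]
      rw [← pow_mul]
      push_cast
      have : N * m = n * m + m * (m - 1) := by
        rcases m with _ | m
        · simp
        · have : N = n + m := by omega
          subst this
          simp
          ring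
      rw [this, pow_add]
      have he : Even (m * (m - 1)) := by
        rw [mul_comm]
        exact Nat.even_mul_pred_self m |> fun h => by rwa [mul_comm] at h
      rw [he.neg_one_pow, mul_one]
    have hcomp : Fin.append a b = (Fin.append b a ∘ Fin.cast (Nat.add_comm m n).symm) ∘ σ := by
      ext i
      simp only [Function.comp_apply]
      congr 1
      refine Fin.addCases (fun i => ?_) (fun i => ?_) i
      · rw [Fin.append_left]
        have : Fin.cast (Nat.add_comm m n).symm (σ (Fin.castAdd m i)) = Fin.natAdd m i := by
          ext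
          simp only [Fin.val_cast, hσ, Fin.val_castAdd, Fin.val_natAdd]
          rw [Nat.mod_eq_of_lt (by omega)]
          omega
        rw [this, Fin.append_right]
      · rw [Fin.append_right]
        have : Fin.cast (Nat.add_comm m n).symm (σ (Fin.natAdd n i)) = Fin.castAdd n i := by
          ext
          simp only [Fin.val_cast, hσ, Fin.val_castAdd, Fin.val_natAdd]
          have hi := i.isLt
          rw [show n + (i : ℕ) + m = (i : ℕ) + (n + m) by omega, Nat.add_mod_right]
          exact Nat.mod_eq_of_lt (by omega)
        rw [this, Fin.append_left]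
    rw [hcomp, symbol_comp_perm, hsign]

theorem mul_comm_graded (n m : ℕ) (x : K F n) (y : K F m) :
    MilK.mul F n m x y =
      ((-1 : ℤ) ^ (n * m)) • MilK.cast F (Nat.add_comm m n) (MilK.mul F m n y x) := by
  let g : K F n →+ K F m →+ K F (n + m) :=
    ((AddMonoidHom.compHom
      ((((-1 : ℤ) ^ (n * m)) • (AddMonoidHom.id (K F (n + m)))).comp
        (MilK.cast F (Nat.add_comm m n)).toAddMonoidHom)).comp (MilK.mul F m n)).flip
  have : MilK.mul F n m = g := by
    apply hom_ext₂
    intro a b
    simp only [g, mul_symbol_symbol, AddMonoidHom.flip_apply, AddMonoidHom.comp_apply,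
      AddMonoidHom.compHom_apply_apply, AddEquiv.coe_toAddMonoidHom, cast_symbol]
    exact symbol_append_comm a b
  rw [this]
  rfl

/-- Left multiplication by a degree-one symbol is `lm`. -/
theorem cast_mul_symbol_one {n : ℕ} (a : Fˣ) (z : K F n) :
    MilK.cast F (Nat.add_comm 1 n) (MilK.mul F 1 n (MilK.symbol ![a]) z) = lm a z := by
  refine hom_ext' (f := (MilK.cast F (Nat.add_comm 1 n)).toAddMonoidHom.comp
    (MilK.mul F 1 n (MilK.symbol ![a]))) (g := lm a) (fun x => ?_) z
  simp only [AddMonoidHom.comp_apply, mul_symbol_symbol, AddEquiv.coe_toAddMonoidHom, cast_symbol,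
    lm_symbol]
  congr 1
  funext i
  refine Fin.cases ?_ (fun j => ?_) i
  · simp only [Function.comp_apply, Fin.cons_zero]
    have : Fin.cast (Nat.add_comm 1 n).symm (0 : Fin (n + 1)) = Fin.castAdd n (0 : Fin 1) := by
      ext; simp
    rw [this, Fin.append_left]
    simp
  · simp only [Function.comp_apply, Fin.cons_succ]
    have : Fin.cast (Nat.add_comm 1 n).symm j.succ = Fin.natAdd 1 j := by
      ext; simp [Nat.add_comm]
    rw [this, Fin.append_right]

theorem mul_symbol_one {n : ℕ} (a : Fˣ) (z : K F n) :
    MilK.mul F 1 n (MilK.symbol ![a]) z = MilK.cast F (Nat.add_comm n 1) (lm a z) := by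
  rw [← cast_mul_symbol_one, cast_cast, cast_self]

/-- Right multiplication by a degree-one symbol. -/
theorem mul_right_symbol_one {n : ℕ} (a : Fˣ) (z : K F n) :
    MilK.mul F n 1 z (MilK.symbol ![a]) = (-1 : ℤ) ^ n • lm a z := by
  rw [mul_comm_graded, mul_one, mul_symbol_one, cast_cast, cast_self]

theorem lm_mul_left {n m : ℕ} (a : Fˣ) (x : K F n) (y : K F m) :
    MilK.mul F (n + 1) m (lm a x) y = MilK.cast F (by omega) (lm a (MilK.mul F n m x y)) := by
  let f : K F n →+ K F m →+ K F (n + 1 + m) := (MilK.mul F (n + 1) m).comp (lm a)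
  let g : K F n →+ K F m →+ K F (n + 1 + m) :=
    (AddMonoidHom.compHom ((MilK.cast F (show n + m + 1 = n + 1 + m by omega)).toAddMonoidHom.comp
      (lm a))).comp (MilK.mul F n m)
  have : f = g := by
    apply hom_ext₂
    intro b c
    simp only [f, g, AddMonoidHom.comp_apply, lm_symbol, mul_symbol_symbol,
      AddMonoidHom.compHom_apply_apply, AddEquiv.coe_toAddMonoidHom, cast_symbol]
    congr 1
    funext i
    simp only [Function.comp_apply]
    refine Fin.addCases (fun i => ?_) (fun i => ?_) i
    · rw [Fin.append_left]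
      refine Fin.cases ?_ (fun j => ?_) i
      · rfl
      · have : Fin.cast (show n + 1 + m = n + m + 1 by omega) (Fin.castAdd m j.succ) =
            (Fin.castAdd m j).succ := by
          ext; simp
        rw [this, Fin.cons_succ, Fin.cons_succ, Fin.append_left]
    · rw [Fin.append_right]
      have : Fin.cast (show n + 1 + m = n + m + 1 by omega) (Fin.natAdd (n + 1) i) =
          (Fin.natAdd n i).succ := by
        ext; simp; omega
      rw [this, Fin.cons_succ, Fin.append_right]
  exact DFunLike.congr_fun (DFunLike.congr_fun this x) y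

theorem map_mul {E : Type v} [Field E] (φ : F →+* E) {n m : ℕ} (x : K F n) (y : K F m) :
    MilK.map φ (n + m) (MilK.mul F n m x y) = MilK.mul E n m (MilK.map φ n x) (MilK.map φ m y) := by
  let f : K F n →+ K F m →+ K E (n + m) := (AddMonoidHom.compHom (MilK.map φ (n + m))).comp (MilK.mul F n m)
  let g : K F n →+ K F m →+ K E (n + m) :=
    ((MilK.mul E n m).comp (MilK.map φ n)).compr₂ (AddMonoidHom.id _) |>.flip.comp (MilK.map φ m) |>.flip
  have : f = g := by
    apply hom_ext₂
    intro b c
    simp only [f, g, AddMonoidHom.comp_apply, mul_symbol_symbol, MilK.map_symbol,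
      AddMonoidHom.compHom_apply_apply, AddMonoidHom.flip_apply, AddMonoidHom.compr₂_apply,
      AddMonoidHom.id_apply]
    congr 1
    funext i
    refine Fin.addCases (fun i => ?_) (fun i => ?_) i
    · simp
    · simp
  exact DFunLike.congr_fun (DFunLike.congr_fun this x) y

theorem mul_assoc {n m l : ℕ} (x : K F n) (y : K F m) (z : K F l) :
    MilK.mul F (n + m) l (MilK.mul F n m x y) z =
      MilK.cast F (Nat.add_assoc n m l).symm (MilK.mul F n (m + l) x (MilK.mul F m l y z)) := by
  induction x using induction with
  | zero => simp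
  | add x y hx hy => simp only [map_add, AddMonoidHom.add_apply, hx, hy]
  | neg x hx => simp only [map_neg, AddMonoidHom.neg_apply, hx]
  | sym a =>
    induction y using induction with
    | zero => simp
    | add x y hx hy => simp only [map_add, AddMonoidHom.add_apply, hx, hy]
    | neg x hx => simp only [map_neg, AddMonoidHom.neg_apply, hx]
    | sym b =>
      induction z using induction with
      | zero => simp
      | add x y hx hy => simp only [map_add, hx, hy]
      | neg x hx => simp only [map_neg, hx]
      | sym c =>
        simp only [mul_symbol_symbol, cast_symbol, Fin.append_assoc]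

end K766.Mul
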