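import Groth.Agent.MilnorK.K766.Basic
import Mathlib.LinearAlgebra.Multilinear.Basic
import Mathlib.Algebra.Algebra.Basic

/-!
# The universal property of the Milnor K-ring

A homomorphism `ρ` from the unit group of `F` to the additive group of a ring `R` with
`ρ a * ρ b = 0` whenever `a + b = 1` induces maps `K F n →+ R`, `{x₁, …, xₙ} ↦ ρ x₁ * ⋯ * ρ xₙ`.
-/

set_option autoImplicit false

universe u v w

namespace K766.RingLift

open MilK K766.Basic

variable {F : Type u} [Field F] {R : Type w} [Ring R]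

/-- The (adjacent) Steinberg relation for a map into a ring. -/
def IsStein (ρ : Additive Fˣ →+ R) : Prop :=
  ∀ a b : Fˣ, (a : F) + (b : F) = 1 → ρ (Additive.ofMul a) * ρ (Additive.ofMul b) = 0

section

variable {ρ : Additive Fˣ →+ R} (h : IsStein ρ)

include h

theorem mul_neg_self (a : Fˣ) : ρ (Additive.ofMul a) * ρ (Additive.ofMul (-a)) = 0 := by
  by_cases h1 : a = 1
  · subst h1; simp
  · have ha1 : (1 : F) - (a : F) ≠ 0 := by
      intro h0
      apply h1
      apply Units.ext
      rw [Units.val_one]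
      exact (sub_eq_zero.mp h0).symm
    have ha2 : (1 : F) - ((a⁻¹ : Fˣ) : F) ≠ 0 := by
      intro h0
      apply h1
      have : a⁻¹ = 1 := by
        apply Units.ext
        rw [Units.val_one]
        exact (sub_eq_zero.mp h0).symm
      rwa [inv_eq_one] at this
    have key : -a = Units.mk0 _ ha1 / Units.mk0 _ ha2 := by
      rw [eq_div_iff_mul_eq']
      apply Units.ext
      have : (a : F) ≠ 0 := a.ne_zero
      simp only [Units.val_mul, Units.val_mk0, Units.val_neg, Units.val_inv_eq_inv_val]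
      field_simp
      ring
    rw [key, ofMul_div, map_sub, mul_sub]
    have z1 := h a (Units.mk0 _ ha1) (by simp)
    have z2 := h a⁻¹ (Units.mk0 _ ha2) (by simp)
    rw [ofMul_inv, map_neg, neg_mul, neg_eq_zero] at z2
    rw [z1, z2, sub_zero]

theorem anticomm (a b : Fˣ) :
    ρ (Additive.ofMul a) * ρ (Additive.ofMul b) = - (ρ (Additive.ofMul b) * ρ (Additive.ofMul a)) := by
  have h0 := mul_neg_self h (a * b)
  have e1 : ρ (Additive.ofMul a) * ρ (Additive.ofMul (-(a * b))) =
      ρ (Additive.ofMul a) * ρ (Additive.ofMul b) := by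
    rw [← neg_mul, ofMul_mul, map_add, mul_add, mul_neg_self h, zero_add]
  have e2 : ρ (Additive.ofMul b) * ρ (Additive.ofMul (-(a * b))) =
      ρ (Additive.ofMul b) * ρ (Additive.ofMul a) := by
    rw [← mul_neg, ofMul_mul, map_add, mul_add, mul_neg_self h, add_zero]
  rw [ofMul_mul, map_add, add_mul, e1, e2] at h0
  exact eq_neg_of_add_eq_zero_left h0

end

/-- The product of the values of `ρ` along a tuple. -/
noncomputable def prodML (ρ : Additive Fˣ →+ R) (n : ℕ) :
    MultilinearMap ℤ (fun _ : Fin n => Additive Fˣ) R :=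
  (MultilinearMap.mkPiAlgebraFin ℤ n R).compLinearMap (fun _ => ρ.toIntLinearMap)

theorem prodML_apply (ρ : Additive Fˣ →+ R) (n : ℕ) (x : Fin n → Additive Fˣ) :
    prodML ρ n x = (List.ofFn fun i => ρ (x i)).prod := by
  simp [prodML]

theorem prodML_cons (ρ : Additive Fˣ →+ R) (n : ℕ) (x : Fin (n + 1) → Fˣ) :
    prodML ρ (n + 1) (fun i => Additive.ofMul (x i)) =
      ρ (Additive.ofMul (x 0)) * prodML ρ n (fun i => Additive.ofMul (x i.succ)) := by
  simp [prodML_apply, List.ofFn_succ]

theorem prodML_eq_zero_aux {ρ : Additive Fˣ →+ R} (h : IsStein ρ) (a : Fˣ) :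
    ∀ (n : ℕ) (x : Fin n → Fˣ) (j : Fin n), (a : F) + (x j : F) = 1 →
      ρ (Additive.ofMul a) * prodML ρ n (fun i => Additive.ofMul (x i)) = 0 := by
  intro n
  induction n with
  | zero => intro x j; exact j.elim0
  | succ n ih =>
    intro x j hj
    rw [prodML_cons, ← mul_assoc]
    refine Fin.cases (fun hj => ?_) (fun j' hj => ?_) j hj
    · rw [h a (x 0) hj, zero_mul]
    · rw [anticomm h, neg_mul, mul_assoc, ih (fun i => x i.succ) j' hj, mul_zero, neg_zero]

theorem prodML_eq_zero {ρ : Additive Fˣ →+ R} (h : IsStein ρ) :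
    ∀ (n : ℕ) (x : Fin n → Fˣ), IsSteinberg F x →
      prodML ρ n (fun i => Additive.ofMul (x i)) = 0 := by
  intro n
  induction n with
  | zero => rintro x ⟨i, -⟩; exact i.elim0
  | succ n ih =>
    rintro x ⟨i, j, hij, hx⟩
    rw [prodML_cons]
    revert hij hx
    refine Fin.cases (fun hij hx => ?_) (fun i' hij hx => ?_) i
    · obtain ⟨j', rfl⟩ := Fin.exists_succ_eq.mpr (ne_of_gt hij)
      exact prodML_eq_zero_aux h (x 0) n (fun i => x i.succ) j' hx
    · obtain ⟨j', rfl⟩ := Fin.exists_succ_eq.mpr (ne_of_gt (lt_of_le_of_lt (Fin.zero_le _) hij))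
      rw [ih (fun i => x i.succ) ⟨i', j', by simpa using hij, hx⟩, mul_zero]

/-- The map induced on Milnor K-groups by a homomorphism into a ring satisfying the Steinberg
relation. -/
noncomputable def liftRing (ρ : Additive Fˣ →+ R) (h : IsStein ρ) (n : ℕ) : K F n →+ R :=
  MilK.lift (prodML ρ n) (prodML_eq_zero h n)

theorem liftRing_symbol (ρ : Additive Fˣ →+ R) (h : IsStein ρ) {n : ℕ} (x : Fin n → Fˣ) :
    liftRing ρ h n (symbol x) = (List.ofFn fun i => ρ (Additive.ofMul (x i))).prod := by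
  rw [liftRing, MilK.lift_symbol, prodML_apply]

theorem liftRing_lm (ρ : Additive Fˣ →+ R) (h : IsStein ρ) {n : ℕ} (a : Fˣ) (z : K F n) :
    liftRing ρ h (n + 1) (lm a z) = ρ (Additive.ofMul a) * liftRing ρ h n z := by
  refine hom_ext' (f := (liftRing ρ h (n + 1)).comp (lm a))
    (g := (AddMonoidHom.mulLeft (ρ (Additive.ofMul a))).comp (liftRing ρ h n)) (fun x => ?_) z
  simp only [AddMonoidHom.comp_apply, lm_symbol, liftRing_symbol, AddMonoidHom.coe_mulLeft,
    List.ofFn_succ, Fin.cons_zero, Fin.cons_succ, List.prod_cons]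

theorem liftRing_zero (ρ : Additive Fˣ →+ R) (h : IsStein ρ) :
    liftRing ρ h 0 (symbol Fin.elim0) = 1 := by
  rw [liftRing_symbol]; simp

end K766.RingLift
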